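import Groth.Agent.Lib.RankStratum9.Basic
import Groth.Agent.Lib.K0Sub.RankNilp
import Groth.Agent.Lib.DegDet.Stalk
import Groth.Agent.Lib.Euler.Coh

/-!
The rank stratum is closed for modules locally generated by few sections.
-/

set_option autoImplicit false
set_option backward.isDefEq.respectTransparency false
set_option maxHeartbeats 400000
universe u

noncomputable section

open CategoryTheory CategoryTheory.Limits AlgebraicGeometry TopologicalSpace Opposite

namespace GrothLib.RankStratum26

open GrothLib.RankStratum9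

variable {X : Scheme.{u}}

theorem exists_stratum_closed (F : X.Modules) [F.IsQuasicoherent] (hF : CohB1.IsFT F) (r : ℕ) :
    ∃ (Z : Scheme.{u}) (i : Z ⟶ X), IsImmersion i ∧ (Fitt.sheafIdeal F r = ⊤ → IsClosedImmersion i) ∧
      ∀ (T : Scheme.{u}) (f : T ⟶ X),
      (∃ g : T ⟶ Z, g ≫ i = f) ↔ FlatMod.IsFinLocFreeOfRank r ((Scheme.Modules.pullback f).obj F) := by
  let A : X.IdealSheafData := if r = 0 then ⊥ else Fitt.sheafIdeal F (r - 1)
  let B := Fitt.sheafIdeal F r
  let U : X.Opens := ⟨(B.support : Set X)ᶜ, B.support.isClosed.isOpen_compl⟩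
  let K := A.comap U.ι
  refine ⟨K.subscheme, K.subschemeι ≫ U.ι, inferInstance, fun hB => ?_, fun T f => ?_⟩
  · haveI : IsIso U.ι := by
      have hU : U = ⊤ := eq_top_iff.2 fun x _ hx => by
        have hx' : x ∈ (B.support : Set X) := hx
        rw [show B = ⊤ from hB, Scheme.IdealSheafData.support_top] at hx'
        exact hx'
      rw [hU]
      exact (inferInstance : IsIso (Scheme.topIso X).hom)
    infer_instance
  haveI := FittSheaf.isQuasicoherent_pullback f F
  rw [isFinLocFreeOfRank_iff (isFT_pullback f F hF)]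
  simp only [← Groth.Agent.S8872.result f F ‹F.IsQuasicoherent› hF]
  have hB : B.comap f = ⊤ ↔ Set.range f ⊆ (U : Set X) := by
    rw [← Scheme.IdealSheafData.support_eq_bot_iff, Scheme.IdealSheafData.support_comap,
      ← SetLike.coe_set_eq]
    show f ⁻¹' (B.support : Set X) = ∅ ↔ _
    rw [Set.preimage_eq_empty_iff, Set.disjoint_iff_inter_eq_empty]
    constructor
    · intro h z hz hzB
      exact (Set.eq_empty_iff_forall_notMem.1 h z) ⟨hzB, hz⟩
    · intro h
      exact Set.eq_empty_iff_forall_notMem.2 fun z hz => h hz.2 hz.1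
  have hA : (∀ k, k < r → (Fitt.sheafIdeal F k).comap f = ⊥) ↔ A.comap f = ⊥ := by
    constructor
    · intro h
      by_cases hr : r = 0
      · simp [A, hr]
      · simpa [A, hr] using h (r - 1) (by omega)
    · intro h k hk
      have hA' : A = Fitt.sheafIdeal F (r - 1) := if_neg (by omega)
      refine le_bot_iff.1 (le_trans (Scheme.IdealSheafData.comap_mono (f := f) ?_) h.le)
      rw [hA']
      intro V
      haveI := FittSheaf.finite_sections hF V
      rw [FittSheaf.sheafIdeal_ideal hF, FittSheaf.sheafIdeal_ideal hF]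
      exact Fitting.ideal_mono (by omega)
  rw [hA, hB]
  constructor
  · rintro ⟨g, rfl⟩
    refine ⟨?_, ?_⟩
    · rw [Scheme.IdealSheafData.comap_comp, Scheme.IdealSheafData.comap_comp]
      have hK : K.comap K.subschemeι = ⊥ := by
        rw [← le_bot_iff, ← Scheme.IdealSheafData.le_map_iff_comap_le, Scheme.IdealSheafData.map_bot,
          Scheme.IdealSheafData.ker_subschemeι]
      rw [show A.comap U.ι = K from rfl, hK, Scheme.IdealSheafData.comap_bot]
    · rintro _ ⟨t, rfl⟩
      exact ((g ≫ K.subschemeι) t).2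
  · rintro ⟨hA', hr'⟩
    let g₀ : T ⟶ U := IsOpenImmersion.lift U.ι f (by rwa [Scheme.Opens.range_ι])
    have hg₀ : g₀ ≫ U.ι = f := IsOpenImmersion.lift_fac _ _ _
    have hle : K ≤ g₀.ker := by
      rw [← Scheme.IdealSheafData.map_bot, Scheme.IdealSheafData.le_map_iff_comap_le,
        show K.comap g₀ = (A.comap U.ι).comap g₀ from rfl, ← Scheme.IdealSheafData.comap_comp, hg₀, hA']
    refine ⟨g₀.toImage ≫ Scheme.IdealSheafData.inclusion hle, ?_⟩
    rw [Category.assoc, ← Category.assoc (Scheme.IdealSheafData.inclusion hle),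
      Scheme.IdealSheafData.inclusion_subschemeι]
    refine Eq.trans ?_ hg₀
    rw [← Category.assoc]
    exact congrArg (· ≫ U.ι) g₀.toImage_imageι

theorem sheafIdeal_eq_top_of_generators (F : X.Modules) [F.IsQuasicoherent] (hF : CohB1.IsFT F) (r : ℕ)
    (h : ∀ s : X, ∃ U : X.Opens, s ∈ U ∧ ∃ p : FlatMod.freeMod (U : Scheme.{u}) r ⟶ F.restrict U.ι, Epi p) :
    Fitt.sheafIdeal F r = ⊤ := by
  rw [← Scheme.IdealSheafData.support_eq_bot_iff]
  refine TopologicalSpace.Closeds.ext (Set.eq_empty_iff_forall_notMem.2 fun x hx => ?_)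
  obtain ⟨U, hxU, p, hp⟩ := h x
  haveI := hp
  let G := (Scheme.Modules.pullback U.ι).obj F
  let q : FlatMod.freeMod (U : Scheme.{u}) r ⟶ G :=
    p ≫ ((Scheme.Modules.restrictFunctorIsoPullback U.ι).app F).hom
  haveI : Epi q := epi_comp _ _
  haveI := FittSheaf.isQuasicoherent_pullback U.ι F
  have hG : CohB1.IsFT G := isFT_pullback U.ι F hF
  have hrank := K0Sub.isFinLocFreeOfRank_freeMod (X := (U : Scheme.{u})) r
  haveI := Euler.isQuasicoherent_freeMod (U : Scheme.{u}) r
  have hfree : CohB1.IsFT (FlatMod.freeMod (U : Scheme.{u}) r) := (DegDet.isCoh_freeMod (U : Scheme.{u}) r).2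
  have htop : Fitt.sheafIdeal G r = ⊤ := by
    refine Scheme.IdealSheafData.ext (funext fun V => FittSheaf.ideal_eq_of_germ V.2 fun y hy => ?_)
    rw [FittSheaf.map_germ_sheafIdeal hG r V hy, Scheme.IdealSheafData.ideal_top, Pi.top_apply, Ideal.map_top]
    have h1 := FittSheaf.map_germ_sheafIdeal hfree r V hy
    rw [sheafIdeal_eq_of_rank hfree hrank, if_pos le_rfl, Scheme.IdealSheafData.ideal_top, Pi.top_apply,
      Ideal.map_top] at h1
    haveI := FittSheaf.finite_stalk hfree y
    exact top_le_iff.1 (h1.le.trans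
      (Fitting.ideal_le_of_surjective (QCoh.stalkLin q y) (QCoh.stalkLin_surjective q y) r))
  rw [← Groth.Agent.S8872.result U.ι F ‹F.IsQuasicoherent› hF, ← Scheme.IdealSheafData.support_eq_bot_iff,
    Scheme.IdealSheafData.support_comap] at htop
  have : (⟨x, hxU⟩ : U) ∈ ((Fitt.sheafIdeal F r).support.preimage U.ι.continuous : TopologicalSpace.Closeds U) := hx
  rw [htop] at this
  exact this

end GrothLib.RankStratum26
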